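import Cfsg.Agent.H440.TwoGen.Psl
import Cfsg.Agent.TwoFusion.SLTwoFacts
import Cfsg.Agent.LieClassical.SLGen
set_option linter.all false

/-!
# `SL_n(q)` is generated by two elements (helper110, for S2295)
-/

set_option autoImplicit false

namespace Cfsg.Agent.H110.D

open Matrix
open scoped commutatorElement

theorem closure_eq_top_of_sup_center {G : Type*} [Group G] (H : Subgroup G) (h : H ⊔ Subgroup.center G = ⊤)
    (hp : commutator G = ⊤) : H = ⊤ := by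
  rw [eq_top_iff, ← hp, commutator_def, Subgroup.commutator_le]
  rintro x - y -
  have hx : x ∈ H ⊔ Subgroup.center G := by rw [h]; trivial
  have hy : y ∈ H ⊔ Subgroup.center G := by rw [h]; trivial
  obtain ⟨a, ha, z, hz, rfl⟩ := Subgroup.mem_sup_of_normal_right.1 hx
  obtain ⟨b, hb, w, hw, rfl⟩ := Subgroup.mem_sup_of_normal_right.1 hy
  have h1 : ∀ g, g * z = z * g := fun g => Subgroup.mem_center_iff.1 hz g
  have h2 : ∀ g, g * w = w * g := fun g => Subgroup.mem_center_iff.1 hw g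
  have : ⁅a * z, b * w⁆ = ⁅a, b⁆ := by
    rw [commutatorElement_def, commutatorElement_def, _root_.mul_inv_rev, _root_.mul_inv_rev]
    calc a * z * (b * w) * (z⁻¹ * a⁻¹) * (w⁻¹ * b⁻¹) = a * (z * b) * (w * z⁻¹ * a⁻¹) * w⁻¹ * b⁻¹ := by group
      _ = a * (b * z) * (w * z⁻¹ * a⁻¹) * w⁻¹ * b⁻¹ := by rw [h1 b]
      _ = a * b * ((z * (w * z⁻¹ * a⁻¹)) * w⁻¹) * b⁻¹ := by group
      _ = a * b * (((w * z⁻¹ * a⁻¹) * z) * w⁻¹) * b⁻¹ := by rw [h1 (w * z⁻¹ * a⁻¹)]
      _ = a * b * (w * (z⁻¹ * (a⁻¹ * z) * w⁻¹)) * b⁻¹ := by group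
      _ = a * b * (w * (z⁻¹ * (z * a⁻¹) * w⁻¹)) * b⁻¹ := by rw [h1 a⁻¹]
      _ = a * b * (w * a⁻¹ * w⁻¹) * b⁻¹ := by group
      _ = a * b * (a⁻¹ * w * w⁻¹) * b⁻¹ := by rw [h2 a⁻¹]
      _ = _ := by group
  rw [this]
  exact H.mul_mem (H.mul_mem (H.mul_mem ha hb) (H.inv_mem ha)) (H.inv_mem hb)

theorem slGen {K : Type*} [Field K] [Fintype K] (n : ℕ) (hn : 2 ≤ n) :
    ∃ a b : Matrix.SpecialLinearGroup (Fin n) K, Subgroup.closure ({a, b} : Set _) = ⊤ := by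
  obtain ⟨n, rfl⟩ : ∃ k, n = k + 1 := ⟨n - 1, by omega⟩
  have hn1 : 1 ≤ n := by omega
  have h01 : (0 : Fin (n + 1)) ≠ 1 := by
    obtain ⟨m, rfl⟩ : ∃ m, n = m + 1 := ⟨n - 1, by omega⟩
    exact Fin.zero_ne_one
  obtain ⟨w, hw⟩ : ∃ w : Matrix.SpecialLinearGroup (Fin (n + 1)) K,
      (w : Matrix (Fin (n + 1)) (Fin (n + 1)) K) = Cfsg.Agent.H440.TwoGen.Psl.W K n :=
    ⟨⟨_, Cfsg.Agent.H440.TwoGen.Psl.det_W⟩, rfl⟩
  obtain ⟨x, hx⟩ : ∃ x : Matrix.SpecialLinearGroup (Fin (n + 1)) K,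
      (x : Matrix (Fin (n + 1)) (Fin (n + 1)) K) = Matrix.transvection (0 : Fin (n + 1)) (1 : Fin (n + 1)) 1 :=
    ⟨Matrix.SpecialLinearGroup.transvection h01 1, rfl⟩
  rcases Nat.lt_or_ge 3 (Fintype.card K) with hK | hK
  · obtain ⟨k, hk⟩ := IsCyclic.exists_generator (α := Kˣ)
    refine ⟨_, _, closure_eq_top_of_sup_center _ (Cfsg.Agent.S2402.result hK n hn1 k hk
      ⟨Matrix.diagonal (fun i : Fin (n + 1) =>
        if i.val = 0 then (k : K) else if i.val = 1 then ((k⁻¹ : Kˣ) : K) else 1),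
        Cfsg.Agent.H440.TwoGen.Psl.det_h hn1 k⟩ x w rfl hx hw) ?_⟩
    by_cases h2 : n = 1
    · subst h2
      exact Cfsg.Agent.TwoFusion.SLTwoFacts.commutator_eq_top (by omega)
    · exact Cfsg.Agent.LieClassical.SLGen.commutator_eq_top (by rw [Fintype.card_fin]; omega)
  · have hxt : x = Matrix.SpecialLinearGroup.transvection h01 1 := Subtype.ext hx
    refine ⟨x, w, Cfsg.Agent.H135.SLCyc.eq_top_of_mem hn1 w hw _ (Subgroup.subset_closure (by simp)) h01 ?_⟩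
    intro a
    obtain ⟨m, rfl⟩ := Cfsg.Agent.S2403.exists_natCast hK a
    have hpow : ∀ m : ℕ, Matrix.SpecialLinearGroup.transvection h01 (m : K) = x ^ m := by
      intro m
      rw [hxt]
      apply Subtype.ext
      rw [Matrix.SpecialLinearGroup.coe_pow]
      change Matrix.transvection (0 : Fin (n + 1)) 1 (m : K) = (Matrix.transvection (0 : Fin (n + 1)) 1 (1 : K)) ^ m
      induction m with
      | zero => simp
      | succ m ih =>
        rw [pow_succ, ← ih, Matrix.transvection_mul_transvection_same _ _ h01]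
        congr 1
        push_cast
        ring
    rw [hpow]
    exact Subgroup.pow_mem _ (Subgroup.subset_closure (by simp)) m

end Cfsg.Agent.H110.D
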